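import Cfsg.Agent.AutPSU.Descent
import Cfsg.Agent.AutPSU.Core
import Cfsg.Agent.FPFNilpotent.Main

/-!
# Local balance in `PSU_n(q)`
-/

set_option autoImplicit false

namespace CfsgLib.AutPSU

open Matrix CfsgLib.Unitary
open CfsgLib.AutPSL (conjPSL mapPSL invTrPSL conjSL mapSL invTrSL glAut invTrGL gfTwist fixImage
  orthLift gamma)

/-- An automorphism of prime order of a non-commutative simple group fixes a non-trivial element. -/
theorem exists_fixed_ne_one {K : Type*} [Group K] [Finite K] [IsSimpleGroup K] {p : ℕ} [Fact p.Prime]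
    (hinj : Function.Injective (MulAut.conj : K →* MulAut K)) (x : MulAut K) (hx : orderOf x = p) :
    ∃ c : K, x c = c ∧ c ≠ 1 := by
  have hp := (Fact.out : p.Prime)
  by_contra hall
  push Not at hall
  have hx1 : x ≠ 1 := fun h => hp.ne_one (by rw [← hx, h, orderOf_one])
  haveI : Nontrivial ↥(Subgroup.zpowers x) :=
    (Subgroup.nontrivial_iff_ne_bot _).mpr (Subgroup.zpowers_ne_bot.mpr hx1)
  haveI : Finite (MulAut K) := Finite.of_injective (fun f : MulAut K => (f : K → K)) DFunLike.coe_injective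
  have hnil : Group.IsNilpotent K :=
    CfsgLib.FPFNilpotent.isNilpotent_of_fpf K (Subgroup.zpowers x).subtype fun a ha k hk => by
      refine hall k ?_
      have hz : Nat.card (Subgroup.zpowers x) = p := by rw [Nat.card_zpowers, hx]
      have htop : Subgroup.zpowers a = ⊤ :=
        zpowers_eq_top_of_prime_card hz ha
      have hxa : (⟨x, Subgroup.mem_zpowers x⟩ : Subgroup.zpowers x) ∈ Subgroup.zpowers a :=
        htop ▸ Subgroup.mem_top _
      obtain ⟨j, hj⟩ := hxa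
      have hj' : (a : MulAut K) ^ j = x := congrArg Subtype.val hj
      have hstab : (a : MulAut K) ∈ MulAction.stabilizer (MulAut K) k := hk
      rw [← hj']
      exact zpow_mem hstab j
  haveI := hnil
  have hc := IsSimpleGroup.comm_iff_isSolvable.mpr (inferInstance : Group.IsSolvable K)
  obtain ⟨c, hc1⟩ := exists_ne (1 : K)
  refine hc1 ((map_eq_one_iff (MulAut.conj : K →* MulAut K) hinj).mp (MulEquiv.ext fun y => ?_))
  rw [MulAut.conj_apply, MulAut.one_apply, hc c y, mul_inv_cancel_right]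

variable {F : Type*} [Field F] [Fintype F] {n q : ℕ}

set_option quotPrecheck false in
local notation "GUn" => ↥(Cfsg.GU n F q)
set_option quotPrecheck false in
local notation "SUn" => ↥(Cfsg.SU n F q)
local notation "PSUn" => Cfsg.PSU n F q
local notation "PSLn" => Matrix.ProjectiveSpecialLinearGroup (Fin n) F

theorem conj_injective_psu (hF : Fintype.card F = q ^ 2) (hn : 3 ≤ n) :
    Function.Injective (MulAut.conj : PSUn →* MulAut PSUn) := by
  obtain ⟨m, rfl⟩ : ∃ m, n = m + 2 := ⟨n - 2, by omega⟩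
  exact conj_injective hF (by omega)

variable {F₀ : Type*} [Field F₀] [Fintype F₀] (hF : Fintype.card F = q ^ 2) (hn : 3 ≤ n)
  {σ : RingAut F} (e : F₀ →+* F) (he : ∀ x, σ x = x ↔ ∃ y, e y = x) {θ₀ : RingAut F₀}
  (hθ₀ : ∀ x, qAut hF (e x) = e (θ₀ x)) {p : ℕ} [Fact p.Prime] (hσ : orderOf σ = p)

local notation "PSL0" => Matrix.ProjectiveSpecialLinearGroup (Fin n) F₀

include hn he hθ₀ hσ in
/-- Trivial core from data over the fixed field. -/
theorem core_bot_of_frame (hdec : ∀ β : MulAut PSUn, ∃ (A : GUn) (τ : F ≃+* F), β = conjPSU A * mapPSU τ)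
    (𝒢 : Subgroup (MulAut PSUn)) (hinn : ∀ k, MulAut.conj k ∈ 𝒢) {g : GUn}
    (hord : orderOf (conjPSU g * mapPSU σ : MulAut PSUn) = p) {P : GL (Fin n) F} {K₀ : GL (Fin n) F₀}
    (h : IsFrame hF σ e g P K₀)
    (hcore : ∀ M : Subgroup ↥(fixImage (lift₀ θ₀ K₀)), M.Normal → (Nat.card M).Coprime p → M = ⊥)
    (hfix : ∀ (g₀ : GL (Fin n) F₀) (τ₀ : RingAut F₀),
      ((conjPSL K₀ : MulAut PSL0) = 1 → (conjPSL (gfTwist θ₀ g₀) : MulAut PSL0) = conjPSL g₀) →
      (∀ z ∈ fixImage (lift₀ θ₀ K₀), (conjPSL g₀ * mapPSL τ₀ : MulAut PSL0) z = z) →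
      (conjPSL g₀ * mapPSL τ₀ : MulAut PSL0) = 1) :
    Cfsg.pPrimeCore p ↥(𝒢 ⊓ Subgroup.centralizer {(conjPSU g * mapPSU σ : MulAut PSUn)}) = ⊥ := by
  classical
  have hn2 : 2 ≤ n := by omega
  have hinj := psuToPSL_injective (n := n) hF hn2
  have hmap := h.map_fix_eq he hθ₀ hn2
  set S := fixImageU (conjSU g * mapSU σ : MulAut SUn)
  refine CfsgLib.AutPSp.core_eq_bot 𝒢 _ hord hinn (conj_injective_psu hF hn) S ?_ ?_ ?_ ?_
  · rintro _ ⟨s, hs, rfl⟩
    exact congrArg QuotientGroup.mk (hs : (conjSU g * mapSU σ : MulAut SUn) s = s)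
  · intro c hc
    obtain ⟨s, rfl⟩ := QuotientGroup.mk_surjective c
    exact fixImageU_norm _ s hc
  · exact core_transfer (psuToPSL hF hn2) ((conjPSL P : MulAut PSLn).toMonoidHom.comp (ratPSL e)) hinj
      ((conjPSL P : MulAut PSLn).injective.comp (ratPSL_injective e)) S _ hmap hcore
  · intro β hβ hcomm
    obtain ⟨A, τ, rfl⟩ := hdec β
    obtain ⟨g₀, hA, hK⟩ := h.descend he hθ₀ hn hσ (Fact.out : p.Prime).pos A τ hcomm
    obtain ⟨τ₀, hτ₀⟩ := exists_restrict e he τ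
    have hEy : Ext (conjPSU A * mapPSU τ : MulAut PSUn) (conjPSL A.1 * mapPSL τ) := ⟨A, τ, rfl, rfl⟩
    have hy : (conjPSL A.1 * mapPSL τ : MulAut PSLn) =
        conjPSL P * (conjPSL (Matrix.GeneralLinearGroup.map e g₀) * mapPSL τ) * (conjPSL P)⁻¹ := by
      rw [← hA, CfsgLib.AutPSL.conjPSL_mul, CfsgLib.AutPSL.conjPSL_mul, CfsgLib.AutPSL.conjPSL_inv,
        mul_assoc (_ * _) (conjPSL (glAut τ P)), ← CfsgLib.AutPSL.mapPSL_mul_conj']
      group
    have h1 : (conjPSL g₀ * mapPSL τ₀ : MulAut PSL0) = 1 := by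
      refine hfix g₀ τ₀ hK fun z hz => ?_
      obtain ⟨w, hw, hwz⟩ : ((conjPSL P : MulAut PSLn).toMonoidHom.comp (ratPSL e)) z ∈
          S.map (psuToPSL hF hn2) := hmap ▸ ⟨z, hz, rfl⟩
      have h2 := hEy.apply hF hn2 w
      rw [hβ w hw, hwz, hy] at h2
      simp only [MonoidHom.comp_apply, MulEquiv.coe_toMonoidHom, MulAut.mul_apply,
        MulAut.inv_apply_self] at h2
      rw [← ratPSL_mapPSL e hτ₀, ← ratPSL_conjPSL] at h2
      exact (ratPSL_injective e ((conjPSL P : MulAut PSLn).injective h2)).symm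
    obtain ⟨hc, hτ1⟩ := CfsgLib.AutPSL.eq_one_of_conj_map_eq_one hn2 h1
    have hg₀ : (conjPSL (Matrix.GeneralLinearGroup.map e g₀) : MulAut PSLn) = 1 := by
      rw [conjPSL_map_congr hn2 e (b := 1) (by
        rw [CfsgLib.AutPSL.conjPSL_of_mem_center hc, CfsgLib.AutPSL.conjPSL_one]), map_one,
        CfsgLib.AutPSL.conjPSL_one]
    haveI : Finite (RingAut F) :=
      Finite.of_injective (fun f : RingAut F => (f : F → F)) DFunLike.coe_injective
    obtain ⟨k, hk⟩ := (isOfFinOrder_of_finite σ).mem_powers_iff_mem_zpowers.mpr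
      (CfsgLib.AutPSp.mem_zpowers_of_fix σ τ fun x => by
        obtain ⟨y, hy'⟩ := (he x).mp ((CfsgLib.AutPSp.mem_fixed_iff σ _).mpr ⟨x, rfl⟩)
        rw [← hy', hτ₀, hτ1]
        rfl)
    change σ ^ k = τ at hk
    refine ⟨(k : ℤ), ?_⟩
    change (conjPSU g * mapPSU σ : MulAut PSUn) ^ (k : ℤ) = _
    rw [zpow_natCast]
    have hEx : Ext (conjPSU g * mapPSU σ : MulAut PSUn) (conjPSL g.1 * mapPSL σ) := ⟨g, σ, rfl, rfl⟩
    refine Ext.left_unique hF hn2 (hEx.pow k) ?_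
    convert hEy using 1
    rw [hy, hg₀, one_mul, h.1, ← CfsgLib.AutPSL.conj_map_conj_inv, conj_pow, ← hk]
    exact congrArg (fun z => conjPSL P * z * (conjPSL P)⁻¹)
      (map_pow (CfsgLib.AutPSL.fieldHom : RingAut F →* MulAut PSLn) σ k).symm

variable {r : ℕ} [Fact r.Prime] [CharP F r]

include hF hn in
/-- Odd order: `p` dividing the fixed points gives a trivial core. -/
theorem core_bot_odd {σ : RingAut F} {p : ℕ} [Fact p.Prime] (hσ : orderOf σ = p) (hp2 : p ≠ 2) (hpr : p ≠ r)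
    (hdec : ∀ β : MulAut PSUn, ∃ (A : GUn) (τ : F ≃+* F), β = conjPSU A * mapPSU τ)
    (𝒢 : Subgroup (MulAut PSUn)) (hinn : ∀ k, MulAut.conj k ∈ 𝒢) (g : GUn)
    (hord : orderOf (conjPSU g * mapPSU σ : MulAut PSUn) = p)
    (hdvd : p ∣ Nat.card ↥(MonoidHom.eqLocus (conjPSU g * mapPSU σ : MulAut PSUn).toMonoidHom
      (MonoidHom.id PSUn))) :
    Cfsg.pPrimeCore p ↥(𝒢 ⊓ Subgroup.centralizer {(conjPSU g * mapPSU σ : MulAut PSUn)}) = ⊥ := by
  classical
  have hp := (Fact.out : p.Prime)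
  have hn2 : 2 ≤ n := by omega
  set S₀ := FixedPoints.subfield (Subgroup.zpowers σ) F
  haveI : Fintype S₀ := Fintype.ofFinite _
  set e := S₀.subtype
  haveI : CharP S₀ r := (RingHom.charP_iff e e.injective r).mpr inferInstance
  have he := CfsgLib.AutPSp.mem_fixed_iff σ
  obtain ⟨θ₀, hθ₀⟩ := exists_restrict e he (qAut hF)
  have hθsq : θ₀ ^ 2 = 1 := RingEquiv.ext fun x => e.injective (by
    rw [pow_two, RingAut.mul_apply, ← hθ₀, ← hθ₀, ← RingAut.mul_apply, ← pow_two, qAut_sq]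
    rfl)
  have hθ : orderOf θ₀ = 2 := by
    refine orderOf_eq_prime hθsq fun h1 => hp2 ?_
    have h2 := orderOf_dvd_of_mem_zpowers (CfsgLib.AutPSp.mem_zpowers_of_fix σ (qAut hF) fun x => by
      obtain ⟨y, hy⟩ := (he x).mp ((CfsgLib.AutPSp.mem_fixed_iff σ _).mpr ⟨x, rfl⟩)
      rw [← hy, hθ₀, h1]
      rfl)
    rw [orderOf_qAut, hσ] at h2
    exact ((Nat.prime_dvd_prime_iff_eq Nat.prime_two hp).mp h2).symm
  -- `|S₀| = q₀²` and `θ₀ = (· ^ q₀)`
  obtain ⟨f, hrp, hcard⟩ := FiniteField.card S₀ r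
  obtain ⟨f', hf'⟩ := CfsgLib.AutPSL.even_of_involution hcard f.2 hθ
  obtain ⟨τ', hτ', hτq⟩ := CfsgLib.AutPSL.exists_frobenius_involution hcard f.2 ⟨f', by rw [hf']; ring⟩
  obtain rfl := CfsgLib.AutPSL.involution_unique hcard f.2 hθ hτ'
  set q₀ := r ^ ((f : ℕ) / 2)
  have hF₀ : Fintype.card S₀ = q₀ ^ 2 := by
    rw [hcard, ← pow_mul]
    congr 1
    omega
  have hqθ : qAut hF₀ = θ₀ := RingEquiv.ext fun x => (qAut_apply hF₀ x).trans (hτq x).symm
  -- normalise the frame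
  obtain ⟨P, K₀, hfr⟩ := exists_frame_of_pow hF e he hn hσ hp.pos g (hord ▸ pow_orderOf_eq_one _)
  have hK := (hfr.sq hθ₀ hn2).trans CfsgLib.AutPSL.conjPSL_one
  obtain ⟨Q, hQ⟩ := CfsgLib.AutPSL.gf_twist_conj hn2 hθ K₀ (by
    rw [pow_two, mul_assoc, ← mul_assoc (mapPSL θ₀ * invTrPSL), CfsgLib.AutPSL.gf_mul_conj,
      mul_assoc (conjPSL (gfTwist θ₀ K₀)), CfsgLib.AutPSL.gf_sq, hθsq, CfsgLib.AutPSL.mapPSL_one, mul_one,
      ← CfsgLib.AutPSL.conjPSL_mul, hK])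
  rw [CfsgLib.AutPSL.conj_gf_conj_inv, mul_left_inj] at hQ
  have hfr1 : IsFrame hF σ e g (P * Matrix.GeneralLinearGroup.map e Q) 1 :=
    (hfr.change he hθ₀ Q).congr_form hn2 (by
      rw [CfsgLib.AutPSL.conjPSL_mul, CfsgLib.AutPSL.conjPSL_mul, hQ, CfsgLib.AutPSL.conjPSL_mul,
        CfsgLib.AutPSL.conjPSL_inv, CfsgLib.AutPSL.conjPSL_inv, CfsgLib.AutPSL.conjPSL_one]
      group)
  set P₁ := P * Matrix.GeneralLinearGroup.map e Q
  have hlift : (lift₀ θ₀ (1 : GL (Fin n) S₀)) = mapSL θ₀ * invTrSL := by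
    rw [lift₀, conjSL_one, one_mul]
  have hone : (conjPSL (1 : GL (Fin n) S₀) : MulAut (Matrix.ProjectiveSpecialLinearGroup (Fin n) S₀)) = 1 :=
    CfsgLib.AutPSL.conjPSL_one
  have hfixrange : ((fixImage (lift₀ θ₀ (1 : GL (Fin n) S₀)))) =
      (⊤ : Subgroup (Cfsg.PSU n S₀ q₀)).map (psuToPSL hF₀ hn2) := by
    rw [hlift, ← hqθ]
    apply le_antisymm
    · rintro _ ⟨s, hs, rfl⟩
      exact ⟨QuotientGroup.mk ⟨s, (mem_SU_iff_fixed hF₀ s).mpr hs⟩, Subgroup.mem_top _, rfl⟩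
    · rintro _ ⟨z, -, rfl⟩
      obtain ⟨s, rfl⟩ := QuotientGroup.mk_surjective z
      exact CfsgLib.AutPSL.mk_mem_fixImage ((mem_SU_iff_fixed hF₀ s.1).mp s.2)
  -- elements commuting with the unitary structure come from `GU`
  have hGU : ∀ g₀ : GL (Fin n) S₀,
      (conjPSL (gfTwist θ₀ g₀) : MulAut (Matrix.ProjectiveSpecialLinearGroup (Fin n) S₀)) = conjPSL g₀ →
      ∃ B : ↥(Cfsg.GU n S₀ q₀),
        (conjPSL g₀ : MulAut (Matrix.ProjectiveSpecialLinearGroup (Fin n) S₀)) = conjPSL B.1 := by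
    intro g₀ hc
    obtain ⟨u, B, rfl, hB⟩ := (CfsgLib.AutPSL.gf_commute_iff hn2 hθ g₀).mp (by
      rw [CfsgLib.AutPSL.gf_mul_conj, hc])
    exact ⟨⟨B, (CfsgLib.AutPSL.mem_GU_iff hθ hτq B).mpr hB⟩, CfsgLib.AutPSL.conjPSL_scalar_mul u B⟩
  -- `p` divides `|PSU_n(q₀)|`
  have hd : p ∣ Nat.card (Cfsg.PSU n S₀ q₀) := by
    obtain ⟨⟨c, hc⟩, hco⟩ := exists_prime_orderOf_dvd_card' p hdvd
    rw [Subgroup.orderOf_mk] at hco
    obtain ⟨s, rfl⟩ := QuotientGroup.mk_surjective c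
    set x : MulAut PSUn := conjPSU g * mapPSU σ
    have hc' : x (QuotientGroup.mk s) = QuotientGroup.mk s := hc
    have hcomm : (conjPSU (suToGU s) * mapPSU (RingEquiv.refl F) : MulAut PSUn) * x =
        x * (conjPSU (suToGU s) * mapPSU (RingEquiv.refl F)) := by
      rw [mapPSU_refl, mul_one, conjPSU_suToGU]
      refine MulEquiv.ext fun z => ?_
      simp only [MulAut.mul_apply, MulAut.conj_apply, map_mul, map_inv, hc']
    obtain ⟨g₀, hA, hK₁⟩ := hfr1.descend he hθ₀ hn hσ hp.pos _ _ hcomm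
    obtain ⟨B, hB⟩ := hGU g₀ (hK₁ hone)
    set y : MulAut PSLn := conjPSL (suToGU s : GUn).1
    have hEy : Ext (MulAut.conj (QuotientGroup.mk s) : MulAut PSUn) y := ext_conj s
    rw [show glAut (RingEquiv.refl F : RingAut F) P₁ = P₁ from CfsgLib.AutPSL.glAut_one P₁,
      CfsgLib.AutPSL.conjPSL_mul, CfsgLib.AutPSL.conjPSL_mul, CfsgLib.AutPSL.conjPSL_inv] at hA
    have hy : y = conjPSL P₁ * conjPSL (Matrix.GeneralLinearGroup.map e g₀) * (conjPSL P₁)⁻¹ := by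
      rw [← hA]; group
      rfl
    have hcp : (QuotientGroup.mk s : PSUn) ^ p = 1 := hco ▸ pow_orderOf_eq_one _
    have hyp : y ^ p = 1 := by
      refine Ext.right_unique hF hn (hEy.pow p) ?_
      rw [← map_pow, hcp, map_one]
      exact Ext.one
    have hgp : (conjPSL g₀ : MulAut (Matrix.ProjectiveSpecialLinearGroup (Fin n) S₀)) ^ p = 1 := by
      rw [← CfsgLib.AutPSL.conjPSL_one]
      rw [show (conjPSL g₀ : MulAut (Matrix.ProjectiveSpecialLinearGroup (Fin n) S₀)) ^ p = conjPSL (g₀ ^ p) from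
        (map_pow CfsgLib.AutPSL.conjHom g₀ p).symm]
      refine conjPSL_descend e ?_
      rw [map_pow, map_one, show (conjPSL (Matrix.GeneralLinearGroup.map e g₀ ^ p) : MulAut PSLn) =
        conjPSL (Matrix.GeneralLinearGroup.map e g₀) ^ p from map_pow CfsgLib.AutPSL.conjHom _ p,
        CfsgLib.AutPSL.conjPSL_one]
      rw [hy, conj_pow, mul_inv_eq_one, mul_eq_left] at hyp
      exact hyp
    have hg1 : (conjPSL g₀ : MulAut (Matrix.ProjectiveSpecialLinearGroup (Fin n) S₀)) ≠ 1 := by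
      intro h1
      have h2 : y = 1 := by
        rw [hy, conjPSL_map_congr hn2 e (h1.trans CfsgLib.AutPSL.conjPSL_one.symm), map_one,
          CfsgLib.AutPSL.conjPSL_one, mul_one, mul_inv_cancel]
      have h3 : (MulAut.conj (QuotientGroup.mk s) : MulAut PSUn) = 1 :=
        Ext.left_unique hF hn2 hEy (h2 ▸ Ext.one)
      rw [map_eq_one_iff _ (conj_injective_psu hF hn)] at h3
      rw [h3, orderOf_one] at hco
      exact hp.ne_one hco.symm
    have hEB : Ext (conjPSU B : MulAut (Cfsg.PSU n S₀ q₀)) (conjPSL g₀) :=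
      ⟨B, RingEquiv.refl _, by rw [mapPSU_refl, mul_one], by
        rw [show (RingEquiv.refl S₀ : RingAut S₀) = 1 from rfl, CfsgLib.AutPSL.mapPSL_one, mul_one, hB]⟩
    have hBo : orderOf (conjPSU B : MulAut (Cfsg.PSU n S₀ q₀)) = p := by
      refine orderOf_eq_prime (Ext.left_unique hF₀ hn2 (hEB.pow p) (hgp ▸ Ext.one)) fun h1 => hg1 ?_
      exact Ext.right_unique hF₀ hn hEB (by rw [h1]; exact Ext.one)
    refine dvd_card_PSU hF₀ hn hp ?_
    rw [← hBo]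
    obtain ⟨m, rfl⟩ : ∃ m, n = m + 2 := ⟨n - 2, by omega⟩
    rw [← card_inndiag hF₀ (by omega),
      ← Subgroup.orderOf_mk (conjPSU B : MulAut (Cfsg.PSU (m + 2) S₀ q₀))
        (show (conjPSU B : MulAut (Cfsg.PSU (m + 2) S₀ q₀)) ∈
          (conjPSUHom : ↥(Cfsg.GU (m + 2) S₀ q₀) →* MulAut (Cfsg.PSU (m + 2) S₀ q₀)).range from ⟨B, rfl⟩)]
    exact orderOf_dvd_natCard _
  refine core_bot_of_frame hF hn e he hθ₀ hσ hdec 𝒢 hinn hord hfr1 ?_ ?_
  · refine core_transfer (MonoidHom.id _) (psuToPSL hF₀ hn2) Function.injective_id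
      (psuToPSL_injective hF₀ hn2) _ ⊤ (by rw [Subgroup.map_id]; exact hfixrange) fun M hM hMc => ?_
    haveI : (M.map (⊤ : Subgroup (Cfsg.PSU n S₀ q₀)).subtype).Normal := by
      refine ⟨fun a ha b => ?_⟩
      obtain ⟨a', ha', rfl⟩ := ha
      exact ⟨⟨b, Subgroup.mem_top b⟩ * a' * (⟨b, Subgroup.mem_top b⟩)⁻¹, hM.conj_mem a' ha' _, rfl⟩
    have h1 := psu_core (r := r) hF₀ hn hp hp2 hpr hd (M.map (Subgroup.subtype ⊤)) (by
      rwa [CfsgLib.Constrained.card_map_of_injective _ (Subgroup.subtype_injective _)])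
    exact (Subgroup.map_eq_bot_iff_of_injective M (Subgroup.subtype_injective _)).mp h1
  · intro g₀ τ₀ hc hz
    obtain ⟨B, hB⟩ := hGU g₀ (hc hone)
    rw [hB] at hz ⊢
    have hEB : Ext (conjPSU B * mapPSU τ₀ : MulAut (Cfsg.PSU n S₀ q₀)) (conjPSL B.1 * mapPSL τ₀) :=
      ⟨B, τ₀, rfl, rfl⟩
    have h1 : (conjPSU B * mapPSU τ₀ : MulAut (Cfsg.PSU n S₀ q₀)) = 1 :=
      MulEquiv.ext fun z => psuToPSL_injective hF₀ hn2 (by
        rw [hEB.apply hF₀ hn2, MulAut.one_apply]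
        exact hz _ (hfixrange ▸ ⟨z, Subgroup.mem_top z, rfl⟩))
    exact Ext.right_unique hF₀ hn hEB (by rw [h1]; exact Ext.one)

include hF hn in
/-- Involutions outside `Inndiag` have trivial odd core. -/
theorem core_bot_two {σ : RingAut F} [Fact (Nat.Prime 2)] (hσ : orderOf σ = 2) (hr : 2 ≠ r)
    (hdec : ∀ β : MulAut PSUn, ∃ (A : GUn) (τ : F ≃+* F), β = conjPSU A * mapPSU τ)
    (𝒢 : Subgroup (MulAut PSUn)) (hinn : ∀ k, MulAut.conj k ∈ 𝒢) (g : GUn)
    (hord : orderOf (conjPSU g * mapPSU σ : MulAut PSUn) = 2) :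
    Cfsg.pPrimeCore 2 ↥(𝒢 ⊓ Subgroup.centralizer {(conjPSU g * mapPSU σ : MulAut PSUn)}) = ⊥ := by
  classical
  have hn2 : 2 ≤ n := by omega
  haveI : NeZero n := ⟨by omega⟩
  set S₀ := FixedPoints.subfield (Subgroup.zpowers σ) F
  haveI : Fintype S₀ := Fintype.ofFinite _
  set e := S₀.subtype
  have he := CfsgLib.AutPSp.mem_fixed_iff σ
  obtain ⟨f, hrp, hcard⟩ := FiniteField.card F r
  have hθσ : qAut hF = σ := CfsgLib.AutPSL.involution_unique hcard f.2 (orderOf_qAut hF) hσ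
  have hθ₀ : ∀ x, qAut hF (e x) = e ((1 : RingAut S₀) x) := fun x => by
    rw [hθσ]; exact (he _).mpr ⟨x, rfl⟩
  have h2 : (2 : S₀) ≠ 0 := by
    intro h
    have h' : ((2 : ℕ) : F) = 0 := by
      have := congrArg e h
      rw [map_ofNat, map_zero] at this
      exact_mod_cast this
    rw [CharP.cast_eq_zero_iff F r] at h'
    exact hr ((Nat.prime_dvd_prime_iff_eq Fact.out Nat.prime_two).mp h').symm
  have htw : ∀ a : GL (Fin n) S₀, gfTwist (1 : RingAut S₀) a = invTrGL a := fun a =>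
    CfsgLib.AutPSL.glAut_one _
  have hlift : ∀ K : GL (Fin n) S₀, lift₀ (1 : RingAut S₀) K = orthLift K := fun K => by
    rw [lift₀, orthLift, show (mapSL (1 : RingAut S₀) : MulAut (Matrix.SpecialLinearGroup (Fin n) S₀)) = 1 from
      MulEquiv.ext fun s => Subtype.ext (Matrix.ext fun i j => rfl), one_mul]
  obtain ⟨P, K₀, hfr⟩ := exists_frame_of_pow hF e he hn hσ (by norm_num) g (hord ▸ pow_orderOf_eq_one _)
  have hK := (hfr.sq hθ₀ hn2).trans CfsgLib.AutPSL.conjPSL_one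
  rw [htw, ← CfsgLib.AutPSL.gamma_sq] at hK
  have hne : (gamma K₀ : MulAut (Matrix.ProjectiveSpecialLinearGroup (Fin n) S₀)) ≠ 1 := fun h1 =>
    CfsgLib.AutPSL.invTrPSL_ne hn K₀⁻¹ 1 (by
      rw [CfsgLib.AutPSL.mapPSL_one, mul_one, CfsgLib.AutPSL.conjPSL_inv]
      exact eq_inv_of_mul_eq_one_right h1)
  obtain ⟨h, hh, hsym⟩ := CfsgLib.AutPSL.exists_gamma_form (γ := gamma K₀)
    ⟨hn, conjPSL K₀, invTrPSL, CfsgLib.AutPSL.isInnerDiagonal_conjPSL K₀,
      CfsgLib.AutPSL.isInverseTranspose_iff.mpr rfl, rfl⟩ (orderOf_eq_prime hK hne)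
  rw [gamma, gamma, mul_left_inj] at hh
  have hfr' := hfr.congr_form hn2 hh
  -- move the form to a standard one
  have key : ∀ h₀ : GL (Fin n) S₀, CfsgLib.AutPSL.Congr h.1 h₀.1 →
      (∀ M : Subgroup ↥(fixImage (orthLift h₀)), M.Normal → (Nat.card M).Coprime 2 → M = ⊥) →
      (∀ (a : GL (Fin n) S₀) (τ : RingAut S₀),
        (∀ z ∈ fixImage (orthLift h₀), (conjPSL a * mapPSL τ :
          MulAut (Matrix.ProjectiveSpecialLinearGroup (Fin n) S₀)) z = z) →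
        (conjPSL a * mapPSL τ : MulAut (Matrix.ProjectiveSpecialLinearGroup (Fin n) S₀)) = 1) →
      Cfsg.pPrimeCore 2 ↥(𝒢 ⊓ Subgroup.centralizer {(conjPSU g * mapPSU σ : MulAut PSUn)}) = ⊥ := by
    intro h₀ ⟨Q, hQ⟩ hcore hfix
    have h3 := hfr'.change he hθ₀ Q⁻¹
    rw [show Q⁻¹⁻¹ * h * gfTwist (1 : RingAut S₀) Q⁻¹ = h₀ from Units.ext (by
      rw [inv_inv, gfTwist_inv, htw, CfsgLib.AutPSL.gamma_congr, hQ])] at h3
    refine core_bot_of_frame hF hn e he hθ₀ hσ hdec 𝒢 hinn hord h3 ?_ fun a τ _ hz => ?_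
    · rw [hlift]; exact hcore
    · rw [hlift] at hz; exact hfix a τ hz
  rcases hsym with hs | hs
  · set d : Fin n → S₀ := Function.update 1 ⟨0, by omega⟩ h.1.det
    have hd : ∀ i, d i ≠ 0 := fun i => by
      simp only [d, Function.update_apply, Pi.one_apply]
      split_ifs
      · exact (Matrix.isUnits_det_units h).ne_zero
      · exact one_ne_zero
    let h₀ : GL (Fin n) S₀ := Matrix.GeneralLinearGroup.mkOfDetNeZero (Matrix.diagonal d) (by
      rw [det_diagonal]; exact Finset.prod_ne_zero_iff.mpr fun i _ => hd i)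
    have hh0 : (h₀ : Matrix (Fin n) (Fin n) S₀) = Matrix.diagonal fun i => ((d i)⁻¹)⁻¹ := by
      simp only [inv_inv]; rfl
    have ha : ∀ i, (d i)⁻¹ ≠ 0 := fun i => inv_ne_zero (hd i)
    refine key h₀ (CfsgLib.AutPSL.congr_of_isSquare_det h2 h h₀ hs (Matrix.diagonal_transpose d) ?_)
      (CfsgLib.AutPSL.orth_core hn h2 hh0 ha) (CfsgLib.AutPSL.orth_fix hn h2 hh0 ha)
    change IsSquare (h.1.det * (Matrix.diagonal d).det)
    rw [det_diagonal, Finset.prod_update_of_mem (Finset.mem_univ _),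
      Finset.prod_eq_one (f := (1 : Fin n → S₀)) (fun b _ => rfl), mul_one]
    exact ⟨_, rfl⟩
  · have hdiag : ∀ i, h.1 i i = 0 := CfsgLib.AutPSL.skew_diag_zero h2 hs
    obtain ⟨m, hm⟩ := CfsgLib.AutPSL.even_card_of_alternating h hs hdiag
    let e' : Fin m ⊕ Fin m ≃ Fin n := finSumFinEquiv.trans (finCongr hm.symm)
    exact key _ (CfsgLib.AutPSL.skew_type hn2 e' h hs hdiag).1 (CfsgLib.AutPSL.symp_core hn h2 e')
      (CfsgLib.AutPSL.symp_fix hn h2 (CfsgLib.AutPSL.reindexGL_skew (Matrix.J_transpose _ _)))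

include hF hn in
/-- Local balance in `PSU_n(q)`. -/
theorem local_balance (hK : IsSimpleGroup PSUn) (𝒢 : Subgroup (MulAut PSUn))
    (hinn : ∀ k, MulAut.conj k ∈ 𝒢) {p : ℕ} [Fact p.Prime] (hpr : p ≠ r) (β : MulAut PSUn)
    (hord : orderOf β = p) (hnot : ¬ Cfsg.IsInnerDiagonalAutPSU β) :
    Cfsg.pPrimeCore p ↥(𝒢 ⊓ Subgroup.centralizer {β}) ≠ ⊥ ↔
      ((∃ γ φ : MulAut PSUn, Cfsg.IsInnerDiagonalAutPSU γ ∧ (∃ σ : F ≃+* F, Cfsg.IsFieldAutPSUOf σ φ) ∧
          β = φ.trans γ) ∧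
        Nat.Coprime p (Nat.card ↥(MonoidHom.eqLocus β.toMonoidHom (MonoidHom.id PSUn)))) := by
  classical
  haveI := hK
  have hp := (Fact.out : p.Prime)
  have h32 := not_three_two_of_simple hF hn hK
  have hdec : ∀ β : MulAut PSUn, ∃ (A : GUn) (τ : F ≃+* F), β = conjPSU A * mapPSU τ := by
    obtain ⟨m, rfl⟩ : ∃ m, n = m + 2 := ⟨n - 2, by omega⟩
    exact exists_decomposition hF r (by omega) h32
  obtain ⟨g, σ, rfl⟩ := hdec β
  have hσ : orderOf σ = p := by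
    have hE : Ext (conjPSU g * mapPSU σ : MulAut PSUn) (conjPSL g.1 * mapPSL σ) := ⟨g, σ, rfl, rfl⟩
    have h1 := Ext.right_unique hF hn (hE.pow p) (by rw [← hord, pow_orderOf_eq_one]; exact Ext.one)
    rw [CfsgLib.AutPSL.conj_map_pow] at h1
    refine orderOf_eq_prime (CfsgLib.AutPSL.eq_one_of_conj_map_eq_one (by omega) h1).2 fun h2 => hnot ?_
    exact isInnerDiagonal_iff.mpr ⟨g, by rw [h2, show (1 : RingAut F) = RingEquiv.refl F from rfl,
      mapPSU_refl, mul_one]⟩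
  have hfirst : ∃ γ φ : MulAut PSUn, Cfsg.IsInnerDiagonalAutPSU γ ∧
      (∃ τ : F ≃+* F, Cfsg.IsFieldAutPSUOf τ φ) ∧ (conjPSU g * mapPSU σ : MulAut PSUn) = φ.trans γ :=
    ⟨conjPSU g, mapPSU σ, isInnerDiagonal_iff.mpr ⟨g, rfl⟩, ⟨σ, isFieldAutOf_iff.mpr rfl⟩, rfl⟩
  constructor
  · intro hne
    refine ⟨hfirst, hp.coprime_iff_not_dvd.mpr fun hdvd => hne ?_⟩
    by_cases hp2 : p = 2
    · subst hp2
      exact core_bot_two (r := r) hF hn hσ hpr hdec 𝒢 hinn g hord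
    · exact core_bot_odd (r := r) hF hn hσ hp2 hpr hdec 𝒢 hinn g hord hdvd
  · rintro ⟨-, hcop⟩
    obtain ⟨c, hc, hc1⟩ := exists_fixed_ne_one (conj_injective_psu hF hn) _ hord
    exact CfsgLib.AutPSp.core_ne_bot 𝒢 _ hinn (conj_injective_psu hF hn) hcop hc hc1

end CfsgLib.AutPSU
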